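import Groth.Agent.NormAmpleX.LineNorm
import Groth.Prelude.Def_Fitting

/-!
# The norm of the reduction in characteristic `p`
-/

universe u

set_option autoImplicit false
set_option backward.isDefEq.respectTransparency false
set_option backward.isDefEq.respectTransparency.types false
set_option linter.style.haveILetI false

open CategoryTheory AlgebraicGeometry TopologicalSpace

namespace Groth.Agent.NormNil7

open Groth.Agent Groth.Agent.H23 Groth.Agent.NormAmpleX

/-- A uniform exponent for the nilpotent germs. -/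
theorem exists_pow_stalk (X : Scheme.{u}) [IsNoetherian X] :
    ∃ N : ℕ, ∀ (x : X) (a : X.presheaf.stalk x), IsNilpotent a → a ^ N = 0 := by
  classical
  let ι := X.affineOpens
  obtain ⟨S, hS⟩ := (isCompact_univ (X := X)).elim_finite_subcover (fun U : ι => (U.1 : Set X)) (fun U => U.1.2)
    (fun x _ => by
      obtain ⟨_, ⟨U, hU, rfl⟩, hx, -⟩ := X.isBasis_affineOpens.exists_subset_of_mem_open (Set.mem_univ x) isOpen_univ
      exact Set.mem_iUnion.2 ⟨⟨U, hU⟩, hx⟩)
  haveI : ∀ U : ι, IsNoetherianRing Γ(X, U.1) := fun U => IsLocallyNoetherian.component_noetherian U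
  choose n hn using fun U : ι => (IsNoetherianRing.isNilpotent_nilradical Γ(X, U.1))
  refine ⟨∑ U ∈ S, n U, fun x a ha => ?_⟩
  obtain ⟨U, hU, hx⟩ := Set.mem_iUnion₂.1 (hS (Set.mem_univ x))
  refine pow_eq_zero_of_le (Finset.single_le_sum (fun V _ => Nat.zero_le (n V)) hU) ?_
  let := TopCat.Presheaf.algebra_section_stalk X.presheaf ⟨x, hx⟩
  haveI := U.2.isLocalization_stalk ⟨x, hx⟩
  obtain ⟨b, s, rfl⟩ := IsLocalization.exists_mk'_eq (U.2.primeIdealOf ⟨x, hx⟩).asIdeal.primeCompl a
  obtain ⟨k, hk⟩ := ha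
  rw [← IsLocalization.mk'_pow, IsLocalization.mk'_eq_zero_iff] at hk
  obtain ⟨m, hm⟩ := hk
  have h1 : IsNilpotent ((m : Γ(X, U.1)) * b) := ⟨k + 1, by
    rw [mul_pow, pow_succ (m : Γ(X, U.1)) k, pow_succ b k]
    calc (m : Γ(X, U.1)) ^ k * m * (b ^ k * b) = (m : Γ(X, U.1)) ^ k * (m * b ^ k) * b := by ring
      _ = 0 := by rw [hm, mul_zero, zero_mul]⟩
  have h2 : ((m : Γ(X, U.1)) * b) ^ n U = 0 := by
    have := Ideal.pow_mem_pow (mem_nilradical.2 h1) (n U)
    rwa [hn U] at this
  rw [← IsLocalization.mk'_pow, IsLocalization.mk'_eq_zero_iff]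
  exact ⟨m ^ n U, by rw [SubmonoidClass.coe_pow, ← mul_pow, h2]⟩

variable {X : Scheme.{u}} {p : ℕ}

/-- The `q`-th power factors through the reduction. -/
theorem pow_eq_pow (hp : p.Prime) (hpX : (p : Γ(X, ⊤)) = 0) {e : ℕ}
    (he : ∀ (x : X) (a : X.presheaf.stalk x), IsNilpotent a → a ^ (p ^ e) = 0) {W : X.Opens} (hW : IsAffineOpen W)
    {s t : Γ(X, W)} (h : X.nilradical.subschemeι.app W s = X.nilradical.subschemeι.app W t) :
    s ^ (p ^ e) = t ^ (p ^ e) := by
  have hpW : (p : Γ(X, W)) = 0 := by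
    rw [← map_natCast (X.presheaf.map (homOfLE (le_top : W ≤ ⊤)).op).hom p, hpX, map_zero]
  have hd : s - t ∈ nilradical Γ(X, W) := by
    have h1 : s - t ∈ RingHom.ker (X.nilradical.subschemeι.app W).hom := by
      rw [RingHom.mem_ker, map_sub, sub_eq_zero]
      exact h
    rw [Scheme.IdealSheafData.ker_subschemeι_app _ ⟨W, hW⟩] at h1
    rw [← Scheme.IdealSheafData.radical_bot] at h1
    exact h1
  have hz : (s - t) ^ (p ^ e) = 0 := by
    refine TopCat.Presheaf.section_ext X.sheaf W _ _ fun x hx => ?_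
    show (X.presheaf.germ W x hx).hom _ = (X.presheaf.germ W x hx).hom 0
    rw [map_pow, map_zero]
    exact he x _ ((mem_nilradical.1 hd).map (X.presheaf.germ W x hx).hom)
  obtain ⟨r, hr⟩ := exists_add_pow_prime_pow_eq hp (s - t) t e
  rw [sub_add_cancel, hz, hpW] at hr
  rw [hr]
  ring

/-- The reduction of a Noetherian scheme of characteristic `p` has a norm of degree a power of `p`. -/
theorem hasNorm (X : Scheme.{u}) [IsNoetherian X] (p : ℕ) (hp : p.Prime) (hpX : (p : Γ(X, ⊤)) = 0) :
    ∃ e : ℕ, 0 < e ∧ Nrm.HasNorm X.nilradical.subschemeι (p ^ e) := by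
  classical
  obtain ⟨N, hN⟩ := exists_pow_stalk X
  let e := N + 1
  have he : ∀ (x : X) (a : X.presheaf.stalk x), IsNilpotent a → a ^ (p ^ e) = 0 := fun x a ha =>
    pow_eq_zero_of_le ((Nat.le_succ N).trans (Nat.lt_pow_self hp.one_lt).le) (hN x a ha)
  let q := p ^ e
  have hq : 0 < q := pow_pos hp.pos e
  let π := X.nilradical.subschemeι
  choose L hL using fun (W : X.Opens) (hW : IsAffineOpen W) => π.app_surjective W hW
  have key : ∀ (W : X.Opens) (hW : IsAffineOpen W) (s : Γ(X, W)), L W hW (π.app W s) ^ q = s ^ q :=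
    fun W hW s => pow_eq_pow hp hpX he hW (hL W hW _)
  have hvan : ∀ (W : X.Opens) (hW : IsAffineOpen W) (a : Γ(X.nilradical.subscheme, π ⁻¹ᵁ W))
      (z : X.nilradical.subscheme) (hz : π z ∈ W),
      π z ∈ X.basicOpen (L W hW a ^ q) → z ∈ X.nilradical.subscheme.basicOpen a := by
    intro W hW a z hz h
    rw [X.basicOpen_pow _ hq] at h
    have h' : z ∈ π ⁻¹ᵁ X.basicOpen (L W hW a) := h
    rwa [π.preimage_basicOpen, hL W hW] at h'
  let m : MulNorm π :=
    { ok := fun W => IsAffineOpen W
      exists_ok := fun y W hy => by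
        obtain ⟨U, hU, hyU, hUW⟩ := exists_isAffineOpen_mem_and_subset (x := y) (U := W) hy
        exact ⟨U, hyU, hUW, hU⟩
      N := fun W hW =>
        { toFun := fun a => L W hW a ^ q
          map_one' := by
            rw [← map_one (π.app W).hom, key W hW, one_pow]
          map_mul' := fun a b => by
            conv_lhs => rw [← hL W hW a, ← hL W hW b, ← map_mul, key W hW, mul_pow] }
      res := fun W W' hW hW' h a => by
        show AModX.resR h (L W hW a ^ q) = L W' hW' (AModX.resR (π.preimage_mono h) a) ^ q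
        rw [map_pow, ← key W' hW']
        congr 2
        conv_rhs => rw [← hL W hW a]
        exact congr($(π.naturality (homOfLE h).op).hom (L W hW a))
      vanish := fun W hW a y hy h hyN => by
        obtain ⟨z, rfl⟩ : y ∈ Set.range π := by
          rw [Scheme.IdealSheafData.range_subschemeι, Scheme.support_nilradical]
          trivial
        exact h z rfl (hvan W hW a z hy hyN) }
  refine ⟨e, Nat.succ_pos N, ⟨⟨hq, m.ext, fun {U V} i s => ?_, fun U c => ?_, fun U s x hx hs => ?_⟩⟩⟩
  · refine (m.existsUnique_ext V _).choose_spec.2 _ fun W hW h => ?_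
    show AModX.resR h (AModX.resR i.le (m.ext U s)) = _
    rw [AModX.resR_resR, m.ext_res hW]
    refine congrArg _ ?_
    show AModX.resR _ s = AModX.resR _ (AModX.resR (π.preimage_mono i.le) s)
    rw [AModX.resR_resR]
  · refine ((m.existsUnique_ext U _).choose_spec.2 _ fun W hW h => ?_).symm
    show AModX.resR h (c ^ q) = L W hW _ ^ q
    rw [map_pow, ← key W hW]
    congr 2
    exact congr($(π.naturality (homOfLE h).op).hom c)
  · obtain ⟨W, hW, hxW, hWU⟩ := exists_isAffineOpen_mem_and_subset (x := π x) (U := U) hx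
    intro hu
    refine hs ?_
    have hv : π x ∈ X.basicOpen (m.N W hW (AModX.resR (π.preimage_mono hWU) s)) := by
      rw [X.mem_basicOpen _ (π x) hxW, ← m.ext_res (W := U) hW hWU s]
      rw [show (X.presheaf.germ W (π x) hxW).hom (AModX.resR hWU (m.ext U s)) =
          X.presheaf.germ U (π x) hx (m.ext U s) from
        TopCat.Presheaf.germ_res_apply X.presheaf (homOfLE hWU) (π x) hxW _]
      exact hu
    have hb := (X.nilradical.subscheme.mem_basicOpen _ x hxW).1 (hvan W hW _ x hxW hv)
    rw [← TopCat.Presheaf.germ_res_apply X.nilradical.subscheme.presheaf (homOfLE (π.preimage_mono hWU)) x hxW s]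
    exact hb

end Groth.Agent.NormNil7
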